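import Groth.Agent.H98An.Roots
import Groth.Agent.An92.Conn.EpsFull
import Groth.Agent.An92.Etale
import Groth.Agent.An92.Dense
import Groth.Agent.An92.Affine

set_option autoImplicit false

open AlgebraicGeometry CategoryTheory Topology Polynomial

namespace Groth.Agent.H98An

open An An.Pts Groth.Agent.An92

noncomputable section

/-- The standard etale pair `t^n = u` for a unit `u` and `n` invertible. -/
def rootPair {A : Type} [CommRing A] (n : ℕ) (hn : 0 < n) (hn' : IsUnit (n : A)) (u : Aˣ) :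
    StandardEtalePair A where
  f := X ^ n - C (u : A)
  monic_f := monic_X_pow_sub_C _ hn.ne'
  g := 1
  cond := ⟨C (↑hn'.unit⁻¹ * ↑u⁻¹) * X, -C ↑u⁻¹, 1, by
    obtain ⟨m, rfl⟩ : ∃ m, n = m + 1 := ⟨n - 1, by omega⟩
    have h1 : C ((m + 1 : ℕ) : A) * C (↑hn'.unit⁻¹ * ↑u⁻¹ : A) = C (↑u⁻¹ : A) := by
      rw [← map_mul, ← mul_assoc, IsUnit.mul_val_inv, one_mul]
    have h2 : C (u : A) * C (↑u⁻¹ : A) = 1 := by rw [← map_mul, Units.mul_inv, map_one]
    rw [derivative_sub, derivative_C, sub_zero, derivative_X_pow, Nat.add_sub_cancel, one_pow]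
    linear_combination (X : A[X]) ^ (m + 1) * h1 + h2⟩

lemma surjective_aeval_rootPair {A : Type} [CommRing A] (n : ℕ) (hn : 0 < n)
    (hn' : IsUnit (n : A)) (u : Aˣ) :
    Function.Surjective (Polynomial.aeval (R := A) (rootPair n hn hn' u).X) := by
  intro b
  let P := rootPair n hn hn' u
  let mk : A[X][X] →+* P.Ring := Ideal.Quotient.mk (Ideal.span {C P.f, X * C P.g - 1})
  obtain ⟨q, rfl⟩ := Ideal.Quotient.mk_surjective (I := Ideal.span {C P.f, X * C P.g - 1}) b
  refine ⟨q.eval 1, ?_⟩
  have hY : mk X = 1 := by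
    have h := Ideal.Quotient.eq.mpr (Ideal.subset_span (s := {C P.f, X * C P.g - 1})
      (Or.inr rfl : X * C P.g - 1 ∈ ({C P.f, X * C P.g - 1} : Set A[X][X])))
    have h' : mk (X * C P.g) = mk 1 := h
    have e : (X : A[X][X]) * C P.g = X := by simp [P, rootPair]
    exact ((congrArg mk e).symm.trans h').trans (map_one mk)
  have hC : ∀ p : A[X], mk (C p) = Polynomial.aeval (R := A) P.X p := by
    intro p
    have : (mk.comp C) = (Polynomial.aeval (R := A) P.X).toRingHom := by
      refine Polynomial.ringHom_ext (fun a => ?_) ?_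
      · simp only [RingHom.comp_apply, AlgHom.toRingHom_eq_coe, RingHom.coe_coe, aeval_C]
        rfl
      · simp only [RingHom.comp_apply, AlgHom.toRingHom_eq_coe, RingHom.coe_coe, aeval_X]
        rfl
    exact RingHom.congr_fun this p
  show Polynomial.aeval (R := A) P.X (q.eval 1) = mk q
  rw [← hC]
  induction q using Polynomial.induction_on with
  | C a => simp
  | add p r hp hr => simp [hp, hr]
  | monomial k a _ => simp [hY]

variable {X : Scheme.{0}} [X.Over SC]

/-- A function with a continuous logarithm has algebraic roots of every order. -/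
theorem exists_pow_eq [IsAffine X] [LocallyOfFiniteType (X ↘ SC)] (u : Γ(X, ⊤))
    (L : Pts X → ℂ) (hL : Continuous L) (hexp : ∀ x : Pts X, Complex.exp (L x) = x.evTop u)
    (n : ℕ) (hn : 0 < n) : ∃ a : Γ(X, ⊤), a ^ n = u := by
  have hu : IsUnit u := by
    rw [← Ideal.span_singleton_eq_top]
    refine (isAffineOpen_top X).iSup_basicOpen_eq_self_iff.mp (top_le_iff.mp fun p _ => ?_)
    have hall := eq_univ_of_forall_pt_mem (X.basicOpen u).2 fun x =>
      (mem_basicOpen_iff x ⊤ (TopologicalSpace.Opens.mem_top _) u).2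
        (by rw [show x.ev ⊤ _ u = x.evTop u from rfl, ← hexp x]; exact Complex.exp_ne_zero _)
    exact TopologicalSpace.Opens.mem_iSup.mpr ⟨⟨u, rfl⟩, hall.ge trivial⟩
  let : Algebra ℂ Γ(X, ⊤) := (strHom X).toAlgebra
  have hn' : IsUnit (n : Γ(X, ⊤)) := by
    have := (IsUnit.mk0 (n : ℂ) (Nat.cast_ne_zero.mpr hn.ne')).map (strHom X)
    simpa using this
  let P := rootPair n hn hn' hu.unit
  let φ : CommRingCat.of Γ(X, ⊤) ⟶ CommRingCat.of P.Ring := CommRingCat.ofHom (algebraMap _ _)
  let S : Scheme.{0} := Spec (CommRingCat.of P.Ring)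
  let b : S ⟶ X := Spec.map φ ≫ X.isoSpec.inv
  let : S.Over SC := ⟨b ≫ X ↘ SC⟩
  have : b.IsOver SC := ⟨rfl⟩
  have : Etale (Spec.map φ) := by
    rw [HasRingHomProperty.Spec_iff (P := @Etale)]
    exact RingHom.etale_algebraMap.mpr inferInstance
  have : Etale b := inferInstance
  have : LocallyOfFiniteType (S ↘ SC) := inferInstanceAs (LocallyOfFiniteType (b ≫ X ↘ SC))
  have hb : ∀ a : Γ(X, ⊤), (Scheme.ΓSpecIso (CommRingCat.of P.Ring)).hom (b.appTop a) =
      algebraMap Γ(X, ⊤) P.Ring a := by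
    intro a
    have hid : X.isoSpec.inv.appTop ≫ (Scheme.ΓSpecIso Γ(X, ⊤)).hom = 𝟙 Γ(X, ⊤) := by
      rw [← Scheme.toSpecΓ_appTop, ← Scheme.Hom.comp_appTop, ← Scheme.Hom.id_appTop]
      congr 1
      exact X.isoSpec.hom_inv_id
    have h : b.appTop ≫ (Scheme.ΓSpecIso (CommRingCat.of P.Ring)).hom = φ := by
      simp only [b, Scheme.Hom.comp_appTop, Category.assoc, Scheme.ΓSpecIso_naturality]
      exact (Category.assoc _ _ _).symm.trans ((congrArg (· ≫ φ) hid).trans (Category.id_comp φ))
    exact congrArg (fun m => m.hom a) h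
  -- the lifting on points
  have hmap : ∀ x : Pts X, letI := (evHom x ⊤ (TopologicalSpace.Opens.mem_top _)).toAlgebra
      P.HasMap (Complex.exp (L x / n)) := by
    intro x
    letI := (evHom x ⊤ (TopologicalSpace.Opens.mem_top _)).toAlgebra
    refine ⟨?_, by simp [P, rootPair]⟩
    simp only [P, rootPair, map_sub, map_pow, aeval_X, aeval_C, sub_eq_zero, IsUnit.unit_spec]
    rw [← Complex.exp_nat_mul, mul_div_cancel₀ _ (Nat.cast_ne_zero.mpr hn.ne')]
    exact hexp x
  let ψ : Pts X → (P.Ring →+* ℂ) := fun x =>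
    letI := (evHom x ⊤ (TopologicalSpace.Opens.mem_top _)).toAlgebra
    (P.lift _ (hmap x)).toRingHom
  have hψa : ∀ x a, ψ x (algebraMap Γ(X, ⊤) P.Ring a) = x.evTop a := fun x a => by
    letI := (evHom x ⊤ (TopologicalSpace.Opens.mem_top _)).toAlgebra
    exact (P.lift _ (hmap x)).commutes a
  have hψX : ∀ x, ψ x P.X = Complex.exp (L x / n) := fun x => by
    letI := (evHom x ⊤ (TopologicalSpace.Opens.mem_top _)).toAlgebra
    exact P.lift_X _ (hmap x)
  let φ' : Pts X → (Γ(S, ⊤) →+* ℂ) := fun x =>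
    (ψ x).comp (Scheme.ΓSpecIso (CommRingCat.of P.Ring)).hom.hom
  have hφ' : ∀ x, (φ' x).comp (strHom S) = RingHom.id ℂ := fun x => by
    ext c
    show ψ x ((Scheme.ΓSpecIso (CommRingCat.of P.Ring)).hom (strHom S c)) = c
    rw [← An92.appTop_strHom b, hb, hψa, evTop_strHom]
  let σ : Pts X → Pts S := fun x => An92.ofHom (φ' x) (hφ' x)
  have hσe : ∀ x β, (σ x).evTop β = ψ x ((Scheme.ΓSpecIso (CommRingCat.of P.Ring)).hom β) :=
    fun x β => evTop_ofHom (φ' x) (hφ' x) β
  have hσ : Continuous σ := by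
    rw [isInducing_evTop.continuous_iff]
    refine continuous_pi fun β => ?_
    simp only [Function.comp_def, hσe]
    obtain ⟨p, hp⟩ := (show Function.Surjective (Polynomial.aeval (R := Γ(X, ⊤)) P.X) from
      surjective_aeval_rootPair n hn hn' hu.unit) ((Scheme.ΓSpecIso (CommRingCat.of P.Ring)).hom β)
    rw [← hp]
    clear hp
    induction p using Polynomial.induction_on with
    | C a =>
      simp only [aeval_C, hψa]
      exact An92.continuous_evTop a
    | add p q hp hq =>
      simp only [map_add]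
      exact hp.add hq
    | monomial k a _ =>
      simp only [map_mul, map_pow, aeval_X, aeval_C, hψa, hψX]
      exact (An92.continuous_evTop a).mul (((hL.div_const _).cexp).pow _)
  have hσb : ∀ x, Pts.map b (σ x) = x := fun x => ext_of_evTop fun a => by
    rw [evTop_map, hσe, hb, hψa]
  haveI : Fact EtaleLH := ⟨fun X Y _ _ _ g _ _ => isLocalHomeomorph_of_etale g⟩
  obtain ⟨g, -, hg, -⟩ := exists_map_eq_of_continuous (𝟙 X) b σ hσ (fun x => by
    rw [hσb]; exact (Pts.map_id x).symm)
  let r : Γ(S, ⊤) := (Scheme.ΓSpecIso (CommRingCat.of P.Ring)).inv P.X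
  have hr : r ^ n = b.appTop u := by
    apply (Scheme.ΓSpecIso (CommRingCat.of P.Ring)).commRingCatIsoToRingEquiv.injective
    show (Scheme.ΓSpecIso (CommRingCat.of P.Ring)).hom (r ^ n) = _
    rw [map_pow]
    show ((Scheme.ΓSpecIso (CommRingCat.of P.Ring)).inv ≫
      (Scheme.ΓSpecIso (CommRingCat.of P.Ring)).hom).hom P.X ^ n = _
    rw [Iso.inv_hom_id, CommRingCat.hom_id, RingHom.id_apply]
    refine Eq.trans ?_ (hb u).symm
    have := P.hasMap_X.1
    rw [show P.f = Polynomial.X ^ n - C (hu.unit : Γ(X, ⊤)) from rfl, map_sub, map_pow, aeval_X, aeval_C,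
      sub_eq_zero, IsUnit.unit_spec] at this
    exact this
  refine ⟨g.appTop r, ?_⟩
  rw [← map_pow, hr]
  show (b.appTop ≫ g.appTop).hom u = u
  rw [← Scheme.Hom.comp_appTop, hg, Scheme.Hom.id_appTop]
  rfl

/-- A function with a continuous logarithm on an integral affine variety is constant. -/
theorem exists_eq_const [IsAffine X] [IsIntegral X] [LocallyOfFiniteType (X ↘ SC)] (u : Γ(X, ⊤))
    (L : Pts X → ℂ) (hL : Continuous L) (hexp : ∀ x : Pts X, Complex.exp (L x) = x.evTop u) :
    ∃ c : ℂ, ∀ x : Pts X, x.evTop u = c := by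
  let : Algebra ℂ Γ(X, ⊤) := (strHom X).toAlgebra
  have : Algebra.FiniteType ℂ Γ(X, ⊤) := RingHom.finiteType_algebraMap.mp (finiteType_strHom (X := X))
  let K := FractionRing Γ(X, ⊤)
  have : Algebra.EssFiniteType ℂ K := Algebra.EssFiniteType.comp ℂ Γ(X, ⊤) K
  obtain ⟨c, hc⟩ := exists_eq_algebraMap (k := ℂ) (algebraMap Γ(X, ⊤) K u) fun n hn => by
    obtain ⟨a, ha⟩ := exists_pow_eq u L hL hexp n hn
    exact ⟨algebraMap _ K a, by rw [← map_pow, ha]⟩
  refine ⟨c, fun x => ?_⟩
  rw [IsScalarTower.algebraMap_apply ℂ Γ(X, ⊤) K] at hc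
  rw [← IsFractionRing.injective _ K hc]
  exact evTop_strHom x c

theorem evTop_eq_of_nullhomotopic [IsReduced X] [LocallyOfFiniteType (X ↘ SC)] [QuasiCompact (X ↘ SC)]
    [ConnectedSpace X] (u : Γ(X, ⊤))
    (φ : C(Pts X, {z : ℂ // z ≠ 0})) (hφ : ∀ x : Pts X, (φ x).1 = x.evTop u)
    (z₀ : {z : ℂ // z ≠ 0}) (hnull : φ.Homotopic (ContinuousMap.const (Pts X) z₀)) :
    ∀ x y : Pts X, x.evTop u = y.evTop u := by
  obtain ⟨H⟩ := hnull.symm
  let L' := Complex.isCoveringMap_exp.liftHomotopy H.toContinuousMap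
    (ContinuousMap.const (Pts X) (Complex.log z₀.1)) (fun a => by
      rw [show H.toContinuousMap (0, a) = z₀ from H.apply_zero a]
      exact Subtype.ext (Complex.exp_log z₀.2).symm)
  let L : Pts X → ℂ := fun x => L' (1, x)
  have hL : Continuous L := L'.continuous.comp (by fun_prop)
  have hexp : ∀ x : Pts X, Complex.exp (L x) = x.evTop u := fun x => by
    have h := congrFun (Complex.isCoveringMap_exp.liftHomotopy_lifts H.toContinuousMap
      (ContinuousMap.const (Pts X) (Complex.log z₀.1)) (fun a => by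
        rw [show H.toContinuousMap (0, a) = z₀ from H.apply_zero a]
        exact Subtype.ext (Complex.exp_log z₀.2).symm)) (1, x)
    rw [show H.toContinuousMap (1, x) = φ x from H.apply_one x] at h
    exact (congrArg Subtype.val h).trans (hφ x)
  have := An92.isLocallyNoetherian (X := X)
  have : CompactSpace X := QuasiCompact.compactSpace_of_compactSpace (X ↘ SC)
  have : IsNoetherian X := {}
  have hfin := finite_irreducibleComponents_of_isNoetherian (X := X)
  have key : ∀ Z ∈ irreducibleComponents X, ∃ c : ℂ, ∀ x : Pts X, x.pt ∈ Z → x.evTop u = c := by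
    intro Z hZ
    let O : X.Opens := ⟨(⋃₀ (irreducibleComponents X \ {Z}))ᶜ, by
      rw [Set.sUnion_eq_biUnion, isOpen_compl_iff]
      exact hfin.sdiff.isClosed_biUnion fun W hW => isClosed_of_mem_irreducibleComponents W hW.1⟩
    have hcl : closure (O : Set X) = Z :=
      closure_sUnion_irreducibleComponents_sdiff_singleton hfin Z hZ
    obtain ⟨p, hp⟩ : (O : Set X).Nonempty := by
      rw [← closure_nonempty_iff, hcl]; exact hZ.1.1
    obtain ⟨W, hW, hpW, hWO⟩ := exists_isAffineOpen_mem_and_subset (U := O) hp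
    have hWZ : (W : Set X) ⊆ Z := hcl ▸ Set.Subset.trans hWO subset_closure
    have : IsAffine (W : Scheme.{0}) := hW
    have : Nonempty (W : Scheme.{0}) := ⟨⟨p, hpW⟩⟩
    have : IrreducibleSpace (W : Scheme.{0}) := by
      have := Subtype.preirreducibleSpace (IsPreirreducible.open_subset hZ.1.2 W.2 hWZ)
      exact { toPreirreducibleSpace := this, toNonempty := ⟨⟨p, hpW⟩⟩ }
    have : IsReduced (W : Scheme.{0}) := isReduced_of_isOpenImmersion W.ι
    have : IsIntegral (W : Scheme.{0}) := isIntegral_of_irreducibleSpace_of_isReduced _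
    obtain ⟨c, hc⟩ := exists_eq_const (X := (W : Scheme.{0})) (W.ι.appTop u)
      (L ∘ Pts.map W.ι) (hL.comp (Pts.continuous_map _)) (fun w => by
        rw [Function.comp_apply, hexp, evTop_map])
    refine ⟨c, fun x hx => ?_⟩
    have hZW : Z ⊆ closure (W : Set X) := by
      have h := subset_closure_inter_of_isPreirreducible_of_isOpen hZ.1.2 W.2 ⟨p, hWZ hpW, hpW⟩
      exact h.trans (closure_mono Set.inter_subset_right)
    have hWc : IsLocallyConstructible (W : Set X) :=
      (ConstrTop58.isConstructible_of_isOpen W.2).isLocallyConstructible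
    have hxcl : x ∈ closure (Pts.pt ⁻¹' (W : Set X)) := by
      rw [← preimage_closure_of_isLocallyConstructible hWc]
      exact hZW hx
    have hsub : Pts.pt ⁻¹' (W : Set X) ⊆ {x : Pts X | x.evTop u = c} := by
      intro y hy
      obtain ⟨w, rfl⟩ : y ∈ Set.range (Pts.map W.ι) := by rw [range_map_opensι]; exact hy
      show (Pts.map W.ι w).evTop u = c
      rw [evTop_map]; exact hc w
    exact closure_minimal hsub (isClosed_eq (An92.continuous_evTop u) continuous_const) hxcl
  choose c hc using key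
  have hrange : (Set.range fun x : Pts X => x.evTop u).Finite := by
    have := hfin.to_subtype
    refine (Set.finite_range fun Z : irreducibleComponents X => c Z.1 Z.2).subset ?_
    rintro _ ⟨x, rfl⟩
    exact ⟨⟨irreducibleComponent x.pt, irreducibleComponent_mem_irreducibleComponents _⟩,
      (hc _ _ x mem_irreducibleComponent).symm⟩
  have : ConnectedSpace (Pts X) := connectedSpace_iff_pts.mp inferInstance
  have hsub : (Set.range fun x : Pts X => x.evTop u).Subsingleton := Set.not_nontrivial_iff.mp fun h =>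
    ((isPreconnected_range (An92.continuous_evTop u)).infinite_of_nontrivial h) hrange
  exact fun x y => hsub ⟨x, rfl⟩ ⟨y, rfl⟩

end

end Groth.Agent.H98An
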