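import Mathlib

set_option autoImplicit false

open IntermediateField

namespace Groth.Agent.H98An

/-- In a finitely generated field extension an element with `n`-th roots for every `n` is algebraic. -/
theorem isAlgebraic_of_forall_exists_pow {k K : Type*} [Field k] [Field K] [Algebra k K]
    [Algebra.EssFiniteType k K] (u : K) (hu : ∀ n : ℕ, 0 < n → ∃ a : K, a ^ n = u) :
    IsAlgebraic k u := by
  by_contra htr
  have hind : AlgebraicIndepOn k id ({u} : Set K) := by
    rw [AlgebraicIndepOn, algebraicIndependent_unique_type_iff]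
    exact htr
  obtain ⟨s, hus, hs⟩ := exists_isTranscendenceBasis_superset hind
  have hu' : u ∈ s := hus rfl
  let F := IntermediateField.adjoin k (s \ {u})
  have htrF : Transcendental F u := by
    have h := AlgebraicIndependent.transcendental_adjoin hs.1 (s := Subtype.val ⁻¹' (s \ {u}))
      (i := (⟨u, hu'⟩ : s)) (by simp)
    have e : Subtype.val '' (Subtype.val ⁻¹' (s \ {u}) : Set s) = s \ {u} := by
      rw [Subtype.image_preimage_coe]; exact Set.inter_eq_right.mpr Set.sdiff_subset
    rw [e] at h
    exact transcendental_adjoin_iff.mpr h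
  have halg : Algebra.IsAlgebraic F⟮u⟯ K := by
    have h1 : Algebra.IsAlgebraic (IntermediateField.adjoin k s) K := by
      have := hs.isAlgebraic_field
      rwa [Subtype.range_coe] at this
    have e : (F⟮u⟯).restrictScalars k = IntermediateField.adjoin k s := by
      rw [IntermediateField.adjoin_adjoin_left, Set.sdiff_union_of_subset hus]
    have h2 : Algebra.IsAlgebraic ((F⟮u⟯).restrictScalars k) K := e ▸ h1
    exact h2
  have : Algebra.EssFiniteType F K := Algebra.EssFiniteType.of_comp k F K
  have : Algebra.EssFiniteType F⟮u⟯ K := Algebra.EssFiniteType.of_comp F _ _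
  have : FiniteDimensional F⟮u⟯ K := Algebra.finite_of_essFiniteType_of_isAlgebraic
  set d := Module.finrank F⟮u⟯ K with hd
  have hdpos : 0 < d := Module.finrank_pos
  obtain ⟨a, ha⟩ := hu (d + 1) (Nat.succ_pos d)
  set b := Algebra.norm F⟮u⟯ a with hb
  have hbd : b ^ (d + 1) = (⟨u, mem_adjoin_simple_self F u⟩ : F⟮u⟯) ^ d := by
    rw [hb, ← map_pow, ha]
    exact Algebra.norm_algebraMap (⟨u, mem_adjoin_simple_self F u⟩ : F⟮u⟯)
  have hu0 : u ≠ 0 := fun h => htr (h ▸ isAlgebraic_zero)
  obtain ⟨f, g, hfg⟩ := (mem_adjoin_simple_iff F (b : K)).mp b.2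
  have hbd' : ((b : K)) ^ (d + 1) = u ^ d := by
    simpa using congrArg (fun z : F⟮u⟯ => (z : K)) hbd
  have hb0 : (b : K) ≠ 0 := fun h => by
    rw [h, zero_pow d.succ_ne_zero] at hbd'
    exact pow_ne_zero d hu0 hbd'.symm
  have hg : Polynomial.aeval u g ≠ 0 := fun h => hb0 (by rw [hfg, h, div_zero])
  have heq : f ^ (d + 1) = Polynomial.X ^ d * g ^ (d + 1) := by
    refine transcendental_iff_injective.mp htrF ?_
    rw [hfg, div_pow, div_eq_iff (pow_ne_zero _ hg)] at hbd'
    simpa using hbd'
  have hg0 : g ≠ 0 := fun h => hg (by simp [h])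
  have hdeg := congrArg Polynomial.natDegree heq
  rw [Polynomial.natDegree_pow, Polynomial.natDegree_mul (by simp) (pow_ne_zero _ hg0),
    Polynomial.natDegree_pow, Polynomial.natDegree_X, mul_one] at hdeg
  simp only [Polynomial.natDegree_pow] at hdeg
  have : (d + 1) ∣ d := (Nat.dvd_add_left (dvd_mul_right (d + 1) g.natDegree)).mp ⟨f.natDegree, hdeg.symm⟩
  exact absurd (Nat.le_of_dvd hdpos this) (by omega)

theorem exists_eq_algebraMap {k K : Type*} [Field k] [IsAlgClosed k] [Field K] [Algebra k K]
    [Algebra.EssFiniteType k K] (u : K) (hu : ∀ n : ℕ, 0 < n → ∃ a : K, a ^ n = u) :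
    ∃ c : k, algebraMap k K c = u :=
  have h := (isAlgebraic_of_forall_exists_pow u hu).isIntegral
  minpoly.mem_range_of_degree_eq_one k u (IsAlgClosed.degree_eq_one_of_irreducible k (minpoly.irreducible h))

end Groth.Agent.H98An
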